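import Cfsg.Agent.SmallDegreeP.Counting
import Cfsg.Agent.TILattice.Basic

/-!
# Faithful characters of degree less than `(p - 1) / 2`

A group whose order is divisible by `p` exactly once and has such a character has a normal subgroup
of order `p`.
-/

set_option autoImplicit false
set_option linter.style.haveILetI false
set_option linter.unusedSectionVars false

namespace CfsgLib.SmallDegreeP

open Cfsg CfsgLib.Characters

universe u

variable {p : ℕ} [Fact p.Prime]

section Local

variable {G : Type u} [Group G] [Fintype G]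

theorem card_zpowers_of_orderOf {x : G} (hx : orderOf x = p) :
    Nat.card (Subgroup.zpowers x) = p := by rw [Nat.card_zpowers, hx]

theorem card_le_of_isPGroup (hsq : ¬ p ^ 2 ∣ Nat.card G) {H : Subgroup G} (hH : IsPGroup p H) :
    Nat.card H ∣ p := by
  obtain ⟨k, hk⟩ := IsPGroup.iff_card.1 hH
  rw [hk]
  by_cases hk2 : 2 ≤ k
  · exact absurd ((pow_dvd_pow p hk2).trans (hk ▸ Subgroup.card_subgroup_dvd_card H)) hsq
  · calc p ^ k ∣ p ^ 1 := pow_dvd_pow p (by omega)
      _ = p := pow_one p

/-- Elements of order `p` normalizing each other generate the same subgroup. -/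
theorem zpowers_eq_of_mem_normalizer (hsq : ¬ p ^ 2 ∣ Nat.card G) {x y : G} (hx : orderOf x = p)
    (hy : orderOf y = p) (hn : x ∈ Subgroup.normalizer (Subgroup.zpowers y : Set G)) :
    Subgroup.zpowers x = Subgroup.zpowers y := by
  have h1 : IsPGroup p (Subgroup.zpowers x) := IsPGroup.iff_card.2 ⟨1, by
    rw [card_zpowers_of_orderOf hx, pow_one]⟩
  have h2 : IsPGroup p (Subgroup.zpowers y) := IsPGroup.iff_card.2 ⟨1, by
    rw [card_zpowers_of_orderOf hy, pow_one]⟩
  have h3 := h1.to_sup_of_normal_right' h2 (Subgroup.zpowers_le.2 hn)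
  have h4 := card_le_of_isPGroup hsq h3
  have hpos : 0 < p := (Fact.out : p.Prime).pos
  have hle := Nat.le_of_dvd hpos h4
  have e1 : Subgroup.zpowers x = Subgroup.zpowers x ⊔ Subgroup.zpowers y :=
    Subgroup.eq_of_le_of_card_ge le_sup_left (by rw [card_zpowers_of_orderOf hx]; exact hle)
  have e2 : Subgroup.zpowers y = Subgroup.zpowers x ⊔ Subgroup.zpowers y :=
    Subgroup.eq_of_le_of_card_ge le_sup_right (by rw [card_zpowers_of_orderOf hy]; exact hle)
  exact e1.trans e2.symm

/-- A normal subgroup containing an element of order `p` contains all of them. -/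
theorem mem_normal_of_orderOf (hsq : ¬ p ^ 2 ∣ Nat.card G) {H : Subgroup G} [H.Normal] {x y : G}
    (hx : x ∈ H) (hxp : orderOf x = p) (hyp : orderOf y = p) : y ∈ H := by
  have hdiv : p ∣ Nat.card G := hxp ▸ orderOf_dvd_natCard x
  have hS : ∀ z : G, orderOf z = p → IsPGroup p (Subgroup.zpowers z) := fun z hz =>
    IsPGroup.iff_card.2 ⟨1, by rw [card_zpowers_of_orderOf hz, pow_one]⟩
  obtain ⟨Sx, hSx⟩ := (hS x hxp).exists_le_sylow
  obtain ⟨Sy, hSy⟩ := (hS y hyp).exists_le_sylow
  have hSxe : (Sx : Subgroup G) = Subgroup.zpowers x := (Subgroup.eq_of_le_of_card_ge hSx (by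
    rw [card_zpowers_of_orderOf hxp, DefectOne.card_sylow_of_sq_not_dvd hdiv hsq Sx])).symm
  obtain ⟨g, hg⟩ := MulAction.exists_smul_eq G Sx Sy
  have hy' : y ∈ (Sy : Subgroup G) := hSy (Subgroup.mem_zpowers y)
  rw [← hg, Sylow.coe_subgroup_smul] at hy'
  obtain ⟨w, hw, rfl⟩ := Subgroup.mem_map.1 (show y ∈ (Sx : Subgroup G).map (MulAut.conj g).toMonoidHom
    from hy')
  rw [hSxe] at hw
  exact (inferInstance : H.Normal).conj_mem w (Subgroup.zpowers_le.2 hx hw) g

open Classical in
/-- The irreducible case. -/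
theorem le_of_irreducible (hdiv : p ∣ Nat.card G) (hsq : ¬ p ^ 2 ∣ Nat.card G)
    (hnn : ∀ H : Subgroup G, H.Normal → Nat.card H ≠ p)
    (hgen : ∀ H : Subgroup G, H.Normal → p ∣ Nat.card H → H = ⊤)
    (χ : IrrCharacter G) (hfaith : ∀ g : G, (χ : G → ℂ) g = (χ : G → ℂ) 1 → g = 1) :
    p ≤ 2 * Cfsg.charDegree (χ : G → ℂ) + 1 := by
  obtain ⟨n, ρ, hρ, hρc⟩ := χ.2
  have hdeg : Cfsg.charDegree (χ : G → ℂ) = n := by
    simp [Cfsg.charDegree, ← hρc, Representation.char_one]
  rw [hdeg]
  by_contra hlt
  obtain ⟨u, hu⟩ := exists_prime_orderOf_dvd_card' p hdiv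
  obtain ⟨B, hB⟩ := TILattice.exists_valuationSubring_p p
  let R : G →* Matrix (Fin n) (Fin n) ℂ :=
    (LinearMap.toMatrixAlgEquiv' : _ ≃ₐ[ℂ] Matrix (Fin n) (Fin n) ℂ).toMonoidHom.comp ρ
  have hRinj : Function.Injective R := fun a b h => by
    have h1 : ρ a = ρ b := (LinearMap.toMatrixAlgEquiv' (R := ℂ) (n := Fin n)).injective h
    have h2 : ρ (a⁻¹ * b) = LinearMap.id := by
      rw [map_mul, ← h1, ← map_mul, inv_mul_cancel, map_one]; rfl
    exact inv_mul_eq_one.1 (hfaith _ (by
      rw [← hρc, Representation.char_one]; exact (char_eq_finrank_iff ρ _).2 h2))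
  obtain ⟨Q, Q', σ, hQQ', hQ'Q, hσ⟩ := exists_integral B R
  have hn : 0 < n := by
    have := finrank_pos_of_isIrreducible ρ
    simpa using this
  let S : Setting p G n :=
    { B := B
      p_mem := hB
      σ := σ
      inj := fun a b h => hRinj (by
        have h1 := congrArg (inclMat B) h
        rw [hσ, hσ] at h1
        calc R a = Q * (Q' * R a * Q) * Q' := by
              rw [← mul_assoc Q, ← mul_assoc Q, hQQ', one_mul, mul_assoc, hQQ', mul_one]
          _ = Q * (Q' * R b * Q) * Q' := by rw [h1]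
          _ = R b := by rw [← mul_assoc Q, ← mul_assoc Q, hQQ', one_mul, mul_assoc, hQQ', mul_one])
      schur := fun A hA => by
        have hA' : ∀ g, R g * (Q * A * Q') = Q * A * Q' * R g := by
          intro g
          have h := hA g
          rw [hσ] at h
          calc R g * (Q * A * Q') = Q * (Q' * R g * Q * A) * Q' := by
                simp only [← mul_assoc, hQQ', one_mul]
            _ = Q * (A * (Q' * R g * Q)) * Q' := by rw [h]
            _ = Q * A * Q' * R g := by
                simp only [mul_assoc, hQQ', mul_one]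
        haveI := hρ
        obtain ⟨c, hc⟩ := schur_scalar ρ (Matrix.toLinAlgEquiv' (Q * A * Q')) fun g x => by
          have h := congrArg (Matrix.toLinAlgEquiv' (R := ℂ) (n := Fin n)) (hA' g)
          rw [map_mul _ (R g), map_mul _ (Q * A * Q') (R g)] at h
          have hR : Matrix.toLinAlgEquiv' (R g) = ρ g := Matrix.toLinAlgEquiv'_toMatrixAlgEquiv' _
          rw [hR] at h
          exact (LinearMap.congr_fun h x).symm
        refine ⟨c, ?_⟩
        have h2 : Q * A * Q' = c • 1 := Matrix.toLinAlgEquiv'.injective (by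
          rw [hc, map_smul, map_one]; rfl)
        calc A = Q' * (Q * A * Q') * Q := by
              rw [← mul_assoc Q', ← mul_assoc Q', hQ'Q, one_mul, mul_assoc, hQ'Q, mul_one]
          _ = c • 1 := by rw [h2, mul_smul_comm, mul_one, smul_mul_assoc, hQ'Q]
      u := u
      pow_u := hu ▸ pow_orderOf_eq_one u
      ne_one := fun h => by
        rw [h, orderOf_one] at hu
        exact (Fact.out : p.Prime).ne_one hu.symm
      N := Subgroup.normalizer (Subgroup.zpowers u : Set G)
      mem_N := fun g => by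
        constructor
        · intro hg
          have hmem : g * u * g⁻¹ ∈ Subgroup.zpowers u :=
            (Subgroup.mem_normalizer_iff.1 hg u).1 (Subgroup.mem_zpowers u)
          obtain ⟨z, hz⟩ := Subgroup.mem_zpowers_iff.1 hmem
          have hz' : upow u (z : ZMod p) = g * u * g⁻¹ := by
            rw [← hz, upow, ← zpow_natCast, ZMod.val_intCast]
            conv_rhs => rw [zpow_eq_zpow_emod z (show u ^ (p : ℤ) = 1 by
              rw [zpow_natCast, ← hu, pow_orderOf_eq_one])]
          refine ⟨Units.mk0 (z : ZMod p) fun h => ?_, hz'.symm⟩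
          rw [h, upow_zero, eq_comm, conj_eq_one_iff] at hz'
          rw [hz', orderOf_one] at hu
          exact (Fact.out : p.Prime).ne_one hu.symm
        · rintro ⟨a, ha⟩
          have hle : (Subgroup.zpowers u).map (MulAut.conj g).toMonoidHom ≤ Subgroup.zpowers u := by
            rw [MonoidHom.map_zpowers, Subgroup.zpowers_le]
            show g * u * g⁻¹ ∈ _
            rw [ha]
            exact pow_mem (Subgroup.mem_zpowers u) _
          have heq := Subgroup.eq_of_le_of_card_ge hle (by
            rw [Subgroup.card_map_of_injective (MulAut.conj g).injective])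
          rw [Subgroup.mem_normalizer_iff]
          intro h
          conv_rhs => rw [← heq]
          constructor
          · exact fun hh => Subgroup.mem_map.2 ⟨h, hh, rfl⟩
          · intro hh
            obtain ⟨w, hw, hwe⟩ := Subgroup.mem_map.1 hh
            have : w = h := (MulAut.conj g).injective hwe
            exact this ▸ hw
      semi := fun g hg => by
        have hord : orderOf (g⁻¹ * u * g) = p := by
          have := (MulAut.conj g⁻¹).orderOf_eq u
          simpa using this.trans hu
        have h := zpowers_eq_of_mem_normalizer hsq hord hu hg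
        rw [← inv_mem_iff, Subgroup.mem_normalizer_iff]
        intro h'
        constructor
        · intro hh
          obtain ⟨z, rfl⟩ := Subgroup.mem_zpowers_iff.1 hh
          rw [← conj_zpow, inv_inv]
          exact Subgroup.zpow_mem _ (h ▸ Subgroup.mem_zpowers (g⁻¹ * u * g)) z
        · intro hh
          rw [← h, inv_inv] at hh
          obtain ⟨z, hz⟩ := Subgroup.mem_zpowers_iff.1 hh
          have e : h' = g * (g⁻¹ * u * g) ^ z * g⁻¹ := by rw [hz]; group
          rw [e, show (g⁻¹ * u * g) ^ z = g⁻¹ * u ^ z * g by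
            simpa using (conj_zpow (i := z) (a := g⁻¹) (b := u))]
          simpa [mul_assoc] using Subgroup.zpow_mem _ (Subgroup.mem_zpowers u) z
      gen := hgen _ Subgroup.normalClosure_normal (by
        have := Subgroup.card_dvd_of_le (Subgroup.zpowers_le.2
          (Subgroup.subset_normalClosure (Set.mem_singleton u)))
        rwa [card_zpowers_of_orderOf hu] at this)
      opr := fun H hH hp => by
        rcases (Nat.dvd_prime (Fact.out : p.Prime)).1 (card_le_of_isPGroup hsq hp) with h | h
        · exact Subgroup.card_eq_one.1 h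
        · exact absurd h (hnn H hH)
      pos := hn
      small := by omega }
  obtain ⟨P, hP⟩ := (IsPGroup.iff_card.2 ⟨1, by rw [card_zpowers_of_orderOf hu, pow_one]⟩ :
    IsPGroup p (Subgroup.zpowers u)).exists_le_sylow
  obtain ⟨L, hL⟩ := DefectOne.exists_local hdiv hsq P
  have hchar : ∀ g, (χ : G → ℂ) g = Matrix.trace (S.rep g) := by
    intro g
    rw [S.rep_apply, hσ, Matrix.trace_mul_comm, ← mul_assoc, hQQ', one_mul, ← hρc]
    rw [← Matrix.trace_toLin'_eq]
    exact congrArg (LinearMap.trace ℂ (Fin n → ℂ)) (Matrix.toLin'_toMatrix' (ρ g)).symm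
  have := S.two_mul_add_one_ge χ hchar L (by rw [hL]; exact hP (Subgroup.mem_zpowers u))
  exact hlt this

end Local

open Classical in
/-- The bound, for groups generated by their elements of order `p`. -/
theorem le_of_generated {G : Type u} [Group G] [Fintype G] (hdiv : p ∣ Nat.card G)
    (hsq : ¬ p ^ 2 ∣ Nat.card G) (hnn : ∀ H : Subgroup G, H.Normal → Nat.card H ≠ p)
    (hgen : ∀ H : Subgroup G, H.Normal → p ∣ Nat.card H → H = ⊤)
    {χ : G → ℂ} (hχ : Cfsg.IsCharacter G χ) (hfaith : ∀ g : G, χ g = χ 1 → g = 1) :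
    p ≤ 2 * Cfsg.charDegree χ + 1 := by
  obtain ⟨l, hl⟩ := exists_list_irr hχ
  have hdegsum : Cfsg.charDegree χ = (l.map fun ψ : Cfsg.IrrCharacter G => Cfsg.charDegree (ψ : G → ℂ)).sum := by
    have h : χ 1 = (((l.map fun ψ : Cfsg.IrrCharacter G => Cfsg.charDegree (ψ : G → ℂ)).sum : ℕ) : ℂ) := by
      rw [hl]
      clear hl
      induction l with
      | nil => simp
      | cons a l ih =>
        simp only [List.map_cons, List.sum_cons, Pi.add_apply, Nat.cast_add, ih,
          Blocks.charDegree_cast]
    rw [Cfsg.charDegree, h, Complex.natCast_re, Nat.floor_natCast]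
  by_contra hlt
  -- every constituent has a kernel of index `1` or `p`
  have hcomm : ∀ a b : G, a * b = b * a := by
    intro a b
    refine mul_inv_eq_one.1 (hfaith _ ?_) |>.trans rfl
    rw [hl]
    clear hfaith
    have hmem : ∀ ψ ∈ l, (ψ : G → ℂ) (a * b * (b * a)⁻¹) = (ψ : G → ℂ) 1 := by
      intro ψ hψ
      have hψle : Cfsg.charDegree (ψ : G → ℂ) ≤ Cfsg.charDegree χ := by
        rw [hdegsum]
        exact List.le_sum_of_mem (List.mem_map.2 ⟨ψ, hψ, rfl⟩)
      obtain ⟨m, ρ, hρ, hρc⟩ := ψ.2
      set K := MonoidHom.ker ρ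
      have hK : ∀ g, (ψ : G → ℂ) g = (ψ : G → ℂ) 1 ↔ g ∈ K := fun g => by
        rw [← hρc, Representation.char_one, char_eq_finrank_iff ρ g, MonoidHom.mem_ker]
        rfl
      rw [hK]
      by_cases hpK : p ∣ Nat.card K
      · rw [hgen K inferInstance hpK]; exact Subgroup.mem_top _
      have hidx := Subgroup.index_mul_card K
      have hdiv' : p ∣ Nat.card (G ⧸ K) := by
        rw [← Subgroup.index_eq_card]
        exact ((Fact.out : p.Prime).dvd_mul.1 (hidx.symm ▸ hdiv)).resolve_right hpK
      have hsq' : ¬ p ^ 2 ∣ Nat.card (G ⧸ K) := fun h => hsq (hidx ▸ dvd_mul_of_dvd_left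
        (by rwa [← Subgroup.index_eq_card] at h) _)
      have hgen' : ∀ H : Subgroup (G ⧸ K), H.Normal → p ∣ Nat.card H → H = ⊤ := by
        intro H hH hpH
        have h1 := hgen (H.comap (QuotientGroup.mk' K)) inferInstance (hpH.trans (by
          exact Subgroup.card_dvd_of_surjective ((QuotientGroup.mk' K).subgroupComap H)
            fun ⟨y, hy⟩ => by
              obtain ⟨x, rfl⟩ := QuotientGroup.mk'_surjective K y
              exact ⟨⟨x, hy⟩, rfl⟩))
        rw [← Subgroup.map_comap_eq_self_of_surjective (QuotientGroup.mk'_surjective K) H, h1,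
          Subgroup.map_top_of_surjective _ (QuotientGroup.mk'_surjective K)]
      by_cases hn : ∀ H : Subgroup (G ⧸ K), H.Normal → Nat.card H ≠ p
      · exfalso
        obtain ⟨ψ', hψ', hval⟩ := exists_irr_quotient K ψ.2 fun x hx => (hK x).2 hx
        haveI : Fintype (G ⧸ K) := Fintype.ofFinite _
        have h := le_of_irreducible hdiv' hsq' hn hgen' ⟨ψ', hψ'⟩ fun q hq => by
          obtain ⟨x, rfl⟩ := QuotientGroup.mk'_surjective K q
          refine (QuotientGroup.eq_one_iff x).2 ((hK x).1 ?_)
          rw [hval x, hval 1]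
          exact hq
        have he : Cfsg.charDegree (ψ : G → ℂ) = Cfsg.charDegree ψ' := by
          rw [Cfsg.charDegree, Cfsg.charDegree, hval 1]; rfl
        have h' : p ≤ 2 * Cfsg.charDegree ψ' + 1 := h
        omega
      · push Not at hn
        obtain ⟨H, hH, hHp⟩ := hn
        have htop := hgen' H hH hHp.symm.dvd
        rw [htop, Subgroup.card_top] at hHp
        haveI := isCyclic_of_prime_card hHp
        rw [← QuotientGroup.eq_one_iff]
        obtain ⟨c, hc⟩ := IsCyclic.exists_generator (α := G ⧸ K)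
        obtain ⟨i, hi⟩ := Subgroup.mem_zpowers_iff.1 (hc (a : G ⧸ K))
        obtain ⟨j, hj⟩ := Subgroup.mem_zpowers_iff.1 (hc (b : G ⧸ K))
        show ((a : G ⧸ K) * b * ((b : G ⧸ K) * a)⁻¹) = 1
        rw [← hi, ← hj, mul_inv_eq_one, ← zpow_add, ← zpow_add, add_comm]
    clear hlt hdegsum hl
    induction l with
    | nil => simp
    | cons x l ih =>
      simp only [List.map_cons, List.sum_cons, Pi.add_apply]
      rw [hmem x (List.mem_cons_self ..), ih fun ψ hψ => hmem ψ (List.mem_cons_of_mem _ hψ)]
  obtain ⟨x, hx⟩ := exists_prime_orderOf_dvd_card' p hdiv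
  refine hnn (Subgroup.zpowers x) ⟨fun y hy g => ?_⟩ (card_zpowers_of_orderOf hx)
  rw [hcomm g y, mul_inv_cancel_right]
  exact hy

open Classical in
/-- A faithful character of a group without normal subgroup of order `p` has degree at least
`(p - 1) / 2`. -/
theorem le_two_mul_degree {G : Type u} [Group G] [Fintype G] (hdiv : p ∣ Nat.card G)
    (hsq : ¬ p ^ 2 ∣ Nat.card G) (hnn : ∀ H : Subgroup G, H.Normal → Nat.card H ≠ p)
    {χ : G → ℂ} (hχ : Cfsg.IsCharacter G χ) (hfaith : ∀ g : G, χ g = χ 1 → g = 1) :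
    p ≤ 2 * Cfsg.charDegree χ + 1 := by
  obtain ⟨x, hx⟩ := exists_prime_orderOf_dvd_card' p hdiv
  set H := Subgroup.normalClosure ({x} : Set G)
  haveI : Fintype H := Fintype.ofFinite _
  have hxH : x ∈ H := Subgroup.subset_normalClosure (Set.mem_singleton x)
  have hxH' : orderOf (⟨x, hxH⟩ : H) = p := by rw [← Subgroup.orderOf_coe]; exact hx
  have hdivH : p ∣ Nat.card H := hxH' ▸ orderOf_dvd_natCard _
  have hsqH : ¬ p ^ 2 ∣ Nat.card H := fun h => hsq (h.trans (Subgroup.card_subgroup_dvd_card H))
  have hin : ∀ (A : Subgroup H), A.Normal → p ∣ Nat.card A → ∀ y : H, orderOf y = p → y ∈ A := by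
    intro A hA hpA y hy
    obtain ⟨w, hw⟩ := exists_prime_orderOf_dvd_card' p hpA
    exact mem_normal_of_orderOf hsqH w.2 (by rw [Subgroup.orderOf_coe]; exact hw) hy
  have hgen : ∀ A : Subgroup H, A.Normal → p ∣ Nat.card A → A = ⊤ := by
    intro A hA hpA
    rw [eq_top_iff]
    intro y _
    have hle : H ≤ A.map H.subtype := by
      refine (Subgroup.closure_le _).2 fun z hz => ?_
      have hzH : z ∈ H := Subgroup.subset_closure hz
      obtain ⟨w, hw, hwz⟩ := Group.mem_conjugatesOfSet_iff.1 hz
      rw [Set.mem_singleton_iff.1 hw] at hwz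
      obtain ⟨g, hg⟩ := isConj_iff.1 hwz
      refine ⟨⟨z, hzH⟩, hin A hA hpA _ ?_, rfl⟩
      rw [← Subgroup.orderOf_coe]
      show orderOf z = p
      rw [← hg]
      have := (MulAut.conj g).orderOf_eq x
      simpa using this.trans hx
    obtain ⟨w, hw, hwy⟩ := hle y.2
    rwa [← Subtype.ext hwy]
  have hnnH : ∀ A : Subgroup H, A.Normal → Nat.card A ≠ p := by
    intro A hA hAp
    have htop := hgen A hA hAp.symm.dvd
    rw [htop, Subgroup.card_top] at hAp
    exact hnn H Subgroup.normalClosure_normal hAp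
  obtain ⟨n, ρ, hρ⟩ := hχ
  have hres : Cfsg.IsCharacter H (fun h => χ h) := ⟨n, ρ.comp H.subtype, funext fun h => congrFun hρ h⟩
  have h := le_of_generated hdivH hsqH hnnH hgen hres fun h hh => Subtype.ext (hfaith h hh)
  exact h

end CfsgLib.SmallDegreeP
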