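import Mathlib

/-!
# Fixed vectors in modules without free summands

If a `p`-element `u` of a subgroup `N` has no fixed coset of `N` other than `N` and acts on a module
in characteristic `p` with `(u - 1) ^ (p - 1) = 0`, then every `N`-fixed vector is `G`-fixed.
-/

set_option autoImplicit false
set_option linter.style.haveILetI false

namespace CfsgLib.SmallDegreeP

section Poly

variable {p : ℕ} [Fact p.Prime] {k : Type*} [Field k] [CharP k p]

open Polynomial in
theorem geom_sum_eq_pow {R : Type*} [Ring R] [Algebra k R] (x : R) :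
    ∑ i ∈ Finset.range p, x ^ i = (x - 1) ^ (p - 1) := by
  have h : (∑ i ∈ Finset.range p, (X : k[X]) ^ i) = (X - 1) ^ (p - 1) := by
    have h1 : (X - 1 : k[X]) ≠ 0 := by
      rw [← C_1]; exact X_sub_C_ne_zero 1
    refine mul_right_cancel₀ h1 ?_
    rw [geom_sum_mul, ← pow_succ, Nat.sub_add_cancel (Fact.out : p.Prime).one_le, sub_pow_char,
      one_pow]
  simpa [map_sum] using congrArg (Polynomial.aeval x) h

/-- A root of unity of order prime to `p` is determined by its image in characteristic `p`. -/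
theorem eq_one_of_pow_p {μ : k} (h : μ ^ p = 1) : μ = 1 := by
  have h1 : (μ - 1) ^ p = 0 := by rw [sub_pow_char, h, one_pow, sub_self]
  exact sub_eq_zero.1 (pow_eq_zero_iff (Fact.out : p.Prime).ne_zero |>.1 h1)

end Poly

section Invariant

variable {k : Type*} [CommRing k] {G : Type*} [Group G] {V : Type*} [AddCommGroup V] [Module k V]

/-- The sum of the translates of a fixed vector along the cosets is fixed. -/
theorem sum_cosets_invariant (f : G →* Module.End k V) (N : Subgroup G) [Fintype (G ⧸ N)] (v : V)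
    (hv : ∀ h ∈ N, f h v = v) (g : G) :
    f g (∑ q : G ⧸ N, f q.out v) = ∑ q : G ⧸ N, f q.out v := by
  rw [map_sum]
  refine Fintype.sum_equiv (MulAction.toPerm g) _ _ fun q => ?_
  obtain ⟨a, rfl⟩ := QuotientGroup.mk_surjective q
  obtain ⟨c, hc⟩ := QuotientGroup.mk_out_eq_mul N a
  obtain ⟨c', hc'⟩ := QuotientGroup.mk_out_eq_mul N (g * a)
  show f g (f (Quotient.out (a : G ⧸ N)) v) = f (Quotient.out ((g * a : G) : G ⧸ N)) v
  rw [hc, hc', map_mul, map_mul, map_mul, Module.End.mul_apply, Module.End.mul_apply,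
    Module.End.mul_apply, hv c c.2, hv c' c'.2]

end Invariant

section Fixed

variable {p : ℕ} [Fact p.Prime] {k : Type*} [Field k] [CharP k p] {G : Type*} [Group G]
  {V : Type*} [AddCommGroup V] [Module k V]

/-- A fixed vector of `N` equals the sum of its translates along the cosets. -/
theorem sum_cosets_eq (f : G →* Module.End k V) (N : Subgroup G) [Fintype (G ⧸ N)] (u : G)
    (hu : u ∈ N) (hup : u ^ p = 1) (hsemi : ∀ g : G, g⁻¹ * u * g ∈ N → g ∈ N)
    (hnil : (f u - 1) ^ (p - 1) = 0) (v : V) (hv : ∀ h ∈ N, f h v = v) :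
    ∑ q : G ⧸ N, f q.out v = v := by
  classical
  have hgeom : ∀ w : V, ∑ i ∈ Finset.range p, f (u ^ i) w = 0 := by
    intro w
    have h := geom_sum_eq_pow (p := p) (k := k) (f u)
    rw [hnil] at h
    simpa [map_pow, LinearMap.sum_apply] using LinearMap.congr_fun h w
  set F : G ⧸ N → V := fun q => f q.out v
  have hF : ∀ g : G, F (g : G ⧸ N) = f g v := fun g => by
    obtain ⟨h, hh⟩ := QuotientGroup.mk_out_eq_mul N g
    show f (Quotient.out (g : G ⧸ N)) v = _
    rw [hh, map_mul, Module.End.mul_apply, hv h h.2]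
  let P := Subgroup.zpowers u
  have hPN : P ≤ N := Subgroup.zpowers_le.2 hu
  have hequiv : ∀ (x : P) (q : G ⧸ N), F (x • q) = f x (F q) := by
    intro x q
    obtain ⟨g, rfl⟩ := QuotientGroup.mk_surjective q
    show F (((x : G) * g : G) : G ⧸ N) = _
    rw [hF, hF, map_mul, Module.End.mul_apply]
  have hbase : ∀ x : P, x • ((1 : G) : G ⧸ N) = ((1 : G) : G ⧸ N) := fun x => by
    show (((x : G) * 1 : G) : G ⧸ N) = _
    rw [mul_one]
    exact QuotientGroup.eq.2 (by simpa using hPN x.2)
  have hone : F ((1 : G) : G ⧸ N) = v := by rw [hF, map_one, Module.End.one_apply]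
  show ∑ q : G ⧸ N, F q = v
  rw [← Finset.add_sum_erase _ _ (Finset.mem_univ ((1 : G) : G ⧸ N)), hone, add_eq_left]
  haveI : Fintype (MulAction.orbitRel.Quotient P (G ⧸ N)) := Fintype.ofFinite _
  let b : MulAction.orbitRel.Quotient P (G ⧸ N) := Quotient.mk'' ((1 : G) : G ⧸ N)
  rw [← Finset.sum_fiberwise_of_maps_to (t := Finset.univ.erase b)
    (g := fun q : G ⧸ N => (Quotient.mk'' q : MulAction.orbitRel.Quotient P (G ⧸ N)))]
  · refine Finset.sum_eq_zero fun o ho => ?_
    obtain ⟨q0, rfl⟩ := Quotient.exists_rep o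
    have hq0 : q0 ≠ ((1 : G) : G ⧸ N) := fun e => (Finset.mem_erase.1 ho).1 (by rw [e])
    obtain ⟨g, rfl⟩ := QuotientGroup.mk_surjective q0
    let ι : ℕ → P := fun i => ⟨u ^ i, pow_mem (Subgroup.mem_zpowers u) i⟩
    have hinj : ∀ i < p, ∀ j < p, ι i • (g : G ⧸ N) = ι j • (g : G ⧸ N) → i = j := by
      intro i hi j hj hij
      by_contra hne
      have h1 : (((u ^ i * g : G)) : G ⧸ N) = ((u ^ j * g : G) : G ⧸ N) := hij
      rw [QuotientGroup.eq] at h1
      obtain ⟨d, hd, hdu⟩ : ∃ d : ℤ, ¬ (p : ℤ) ∣ d ∧ g⁻¹ * u ^ d * g ∈ N := by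
        refine ⟨(j : ℤ) - i, ?_, ?_⟩
        · intro hdvd
          have := Int.eq_zero_of_abs_lt_dvd hdvd (by rw [abs_lt]; constructor <;> omega)
          omega
        · convert h1 using 1
          rw [zpow_sub, zpow_natCast, zpow_natCast]
          group
      obtain ⟨a, b', hab⟩ : ∃ a b' : ℤ, a * d + b' * p = 1 :=
        ((Nat.prime_iff_prime_int.1 Fact.out).coprime_iff_not_dvd.2 hd).symm
      have h2 : g⁻¹ * u * g ∈ N := by
        have h3 := N.zpow_mem hdu a
        have h4 : (g⁻¹ * u ^ d * g) ^ a = g⁻¹ * u * g := by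
          have h5 : u ^ (d * a) = u := by
            rw [show d * a = 1 + (p : ℤ) * (-b') by rw [← hab]; ring, zpow_add, zpow_one, zpow_mul,
              zpow_natCast, hup, one_zpow, mul_one]
          calc (g⁻¹ * u ^ d * g) ^ a = g⁻¹ * (u ^ d) ^ a * g := by
                simpa using (conj_zpow (i := a) (a := g⁻¹) (b := u ^ d))
            _ = g⁻¹ * u * g := by rw [← zpow_mul, h5]
        rwa [h4] at h3
      exact hq0 (QuotientGroup.eq.2 (by simpa using hsemi g h2))
    rw [← hgeom (f g v)]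
    refine (Finset.sum_bij (fun i _ => ι i • (g : G ⧸ N)) ?_ ?_ ?_ ?_).symm
    · intro i _
      have hne : ι i • (g : G ⧸ N) ≠ ((1 : G) : G ⧸ N) := fun e => hq0 (by
        rw [← inv_smul_smul (ι i) (g : G ⧸ N), e, hbase])
      refine Finset.mem_filter.2 ⟨Finset.mem_erase.2 ⟨hne, Finset.mem_univ _⟩, ?_⟩
      exact Quotient.sound' (MulAction.orbitRel_apply.2 ⟨ι i, rfl⟩)
    · intro i hi j hj e
      exact hinj i (Finset.mem_range.1 hi) j (Finset.mem_range.1 hj) e
    · intro q hq
      obtain ⟨⟨x, hx⟩, hxq⟩ := MulAction.orbitRel_apply.1 (Quotient.exact' (Finset.mem_filter.1 hq).2)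
      obtain ⟨z, rfl⟩ := Subgroup.mem_zpowers_iff.1 hx
      have hp0 : (p : ℤ) ≠ 0 := Nat.cast_ne_zero.2 (Fact.out : p.Prime).ne_zero
      refine ⟨(z % (p : ℤ)).toNat, Finset.mem_range.2 ?_, ?_⟩
      · have := Int.emod_lt_of_pos z (show (0 : ℤ) < p by have := (Fact.out : p.Prime).pos; omega)
        omega
      · rw [← hxq]
        show ι _ • _ = (⟨u ^ z, hx⟩ : P) • (g : G ⧸ N)
        congr 1
        refine Subtype.ext ?_
        show u ^ (z % (p : ℤ)).toNat = u ^ z
        rw [← zpow_natCast, Int.toNat_of_nonneg (Int.emod_nonneg z hp0)]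
        conv_rhs => rw [← Int.emod_add_mul_ediv z (p : ℤ), zpow_add, zpow_mul, zpow_natCast, hup,
          one_zpow, mul_one]
    · intro i _
      rw [hequiv, hF]
  · intro q hq
    refine Finset.mem_erase.2 ⟨fun e => ?_, Finset.mem_univ _⟩
    obtain ⟨y, hy⟩ := MulAction.orbitRel_apply.1 (Quotient.exact' e)
    exact (Finset.mem_erase.1 hq).1 (hy.symm.trans (hbase y))

/-- Fixed vectors of `N` are fixed by the group. -/
theorem fixed_of_fixed (f : G →* Module.End k V) (N : Subgroup G) [Fintype (G ⧸ N)] (u : G)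
    (hu : u ∈ N) (hup : u ^ p = 1) (hsemi : ∀ g : G, g⁻¹ * u * g ∈ N → g ∈ N)
    (hnil : (f u - 1) ^ (p - 1) = 0) (v : V) (hv : ∀ h ∈ N, f h v = v) (g : G) : f g v = v := by
  classical
  have h := sum_cosets_eq f N u hu hup hsemi hnil v hv
  rw [← h]
  exact sum_cosets_invariant f N v hv g

end Fixed

section Conj

variable {k : Type*} [Field k] {G : Type*} [Group G] {R : Type*} [Ring R] [Algebra k R]

/-- Conjugation in an algebra through a representation. -/
noncomputable def adHom (σ : G →* R) : G →* Module.End k R where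
  toFun g := LinearMap.mulLeft k (σ g) * LinearMap.mulRight k (σ g⁻¹)
  map_one' := by ext x; simp
  map_mul' g h := by ext x; simp [mul_assoc]

theorem adHom_apply (σ : G →* R) (g : G) (x : R) :
    adHom (k := k) σ g x = σ g * x * σ g⁻¹ := by
  simp [adHom, mul_assoc]

/-- Conjugation by a unipotent element is unipotent. -/
theorem adHom_sub_one_pow (σ : G →* R) (u : G) {s : ℕ} (h : (σ u - 1) ^ s = 0) {j : ℕ}
    (hj : s + s ≤ j + 1) : (adHom (k := k) σ u - 1) ^ j = 0 := by
  have hinv : σ u⁻¹ * σ u = 1 := by rw [← map_mul, inv_mul_cancel, map_one]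
  have hc : Commute (σ u⁻¹) (σ u) := by
    rw [Commute, SemiconjBy, hinv, ← map_mul, mul_inv_cancel, map_one]
  set A : Module.End k R := LinearMap.mulLeft k (σ u - 1) * LinearMap.mulRight k (σ u⁻¹)
  set B : Module.End k R := LinearMap.mulRight k (σ u⁻¹ - 1)
  have hsplit : adHom (k := k) σ u - 1 = A + B := by
    ext x; simp [A, B, adHom_apply, sub_mul, mul_sub, mul_assoc]
  have hinv1 : σ u⁻¹ - 1 = -σ u⁻¹ * (σ u - 1) := by rw [mul_sub, mul_one, neg_mul, hinv]; abel
  have hA : A ^ s = 0 := by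
    rw [(LinearMap.commute_mulLeft_right _ _).mul_pow, LinearMap.pow_mulLeft, h,
      LinearMap.mulLeft_zero_eq_zero, zero_mul]
  have hB : B ^ s = 0 := by
    rw [LinearMap.pow_mulRight, hinv1,
      (((hc.sub_right (Commute.one_right _)).neg_left)).mul_pow, h, mul_zero,
      LinearMap.mulRight_zero_eq_zero]
  have hcomm : Commute A B := by
    refine Commute.mul_left (LinearMap.commute_mulLeft_right _ _) ?_
    show LinearMap.mulRight k (σ u⁻¹) * LinearMap.mulRight k (σ u⁻¹ - 1) =
      LinearMap.mulRight k (σ u⁻¹ - 1) * LinearMap.mulRight k (σ u⁻¹)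
    ext x
    simp [mul_assoc, mul_sub, sub_mul]
  rw [hsplit]
  exact hcomm.add_pow_eq_zero_of_add_le_succ_of_pow_eq_zero hA hB hj

end Conj

end CfsgLib.SmallDegreeP
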