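import Mathlib

/-!
# Integral forms over a valuation ring

A representation of a finite group can be written over any valuation ring of the coefficient field
(choose a basis among the translates of the standard one whose determinant has the largest
valuation); reduction keeps faithfulness unless there is a normal `p`-subgroup.
-/

set_option autoImplicit false
set_option linter.style.haveILetI false

namespace CfsgLib.SmallDegreeP

variable {K : Type*} [Field K] (B : ValuationSubring K) {G : Type*} [Group G] {n : Type*} [Fintype n]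
  [DecidableEq n]

/-- The entrywise inclusion. -/
noncomputable def inclMat : Matrix n n B →+* Matrix n n K := B.subtype.mapMatrix

/-- The entrywise reduction. -/
noncomputable def redMat : Matrix n n B →+* Matrix n n (IsLocalRing.ResidueField B) :=
  (IsLocalRing.residue B).mapMatrix

theorem inclMat_injective : Function.Injective (inclMat B (n := n)) := fun _ _ h =>
  Matrix.ext fun i j => Subtype.ext (congrFun (congrFun h i) j)

theorem inclMat_smul (b : B) (A : Matrix n n B) : inclMat B (b • A) = (b : K) • inclMat B A := by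
  ext i j
  simp [inclMat]

theorem redMat_smul (b : B) (A : Matrix n n B) :
    redMat B (b • A) = IsLocalRing.residue B b • redMat B A := by
  ext i j
  simp [redMat]

/-- A representation has an integral form. -/
theorem exists_integral [Fintype G] (ρ : G →* Matrix n n K) :
    ∃ (Q Q' : Matrix n n K) (σ : G →* Matrix n n B), Q * Q' = 1 ∧ Q' * Q = 1 ∧
      ∀ g, inclMat B (σ g) = Q' * ρ g * Q := by
  classical
  let W : G × n → n → K := fun w j => ρ w.1 j w.2
  let D : (n → G × n) → K := fun f => (Matrix.of fun j i => W (f i) j).det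
  obtain ⟨f, -, hf⟩ := Finset.exists_max_image Finset.univ (fun f => B.valuation (D f))
    ⟨fun i => (1, i), Finset.mem_univ _⟩
  have hD : D f ≠ 0 := by
    intro h
    have h1 := hf (fun i => (1, i)) (Finset.mem_univ _)
    rw [h, map_zero, le_zero_iff, map_eq_zero] at h1
    have h2 : D (fun i => ((1 : G), i)) = 1 := by
      show Matrix.det _ = 1
      rw [← Matrix.det_one (n := n) (R := K)]
      congr 1
      ext j i
      simp [W]
    rw [h2] at h1
    exact one_ne_zero h1
  set Q : Matrix n n K := Matrix.of fun j i => W (f i) j with hQ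
  have hQdet : Q.det = D f := rfl
  have hu : IsUnit Q.det := isUnit_iff_ne_zero.2 (hQdet ▸ hD)
  have hmem : ∀ (g : G) (i j : n), (Q⁻¹ * ρ g * Q) i j ∈ B := by
    intro g i j
    have hcol : (fun r => (ρ g * Q) r j) = W (g * (f j).1, (f j).2) := by
      funext r
      simp only [Q, W, Matrix.mul_apply, Matrix.of_apply, map_mul]
    have h1 : (Q⁻¹ * ρ g * Q) i j = (D f)⁻¹ * (Q.updateCol i (W (g * (f j).1, (f j).2))).det := by
      rw [← hcol, ← Matrix.cramer_apply, Matrix.cramer_eq_adjugate_mulVec, mul_assoc,
        Matrix.inv_def, Matrix.smul_mul, Matrix.smul_apply, smul_eq_mul, hQdet, Ring.inverse_eq_inv']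
      rfl
    have h2 : Q.updateCol i (W (g * (f j).1, (f j).2)) =
        Matrix.of fun r c => W (Function.update f i (g * (f j).1, (f j).2) c) r := by
      ext r c
      by_cases h : c = i
      · subst h; simp
      · simp [Q, h]
    rw [h1, h2, ← B.valuation_le_one_iff, map_mul, map_inv₀,
      inv_mul_le_iff₀ (zero_lt_iff.2 ((map_ne_zero _).2 hD)), mul_one]
    exact hf _ (Finset.mem_univ _)
  let σ : G →* Matrix n n B :=
    { toFun := fun g => Matrix.of fun i j => ⟨(Q⁻¹ * ρ g * Q) i j, hmem g i j⟩
      map_one' := inclMat_injective B (by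
        rw [map_one (inclMat B)]
        show Q⁻¹ * ρ 1 * Q = 1
        rw [map_one, mul_one, Matrix.nonsing_inv_mul _ hu])
      map_mul' := fun g h => inclMat_injective B (by
        rw [map_mul (inclMat B)]
        show Q⁻¹ * ρ (g * h) * Q = (Q⁻¹ * ρ g * Q) * (Q⁻¹ * ρ h * Q)
        rw [map_mul]
        simp only [Matrix.mul_assoc]
        rw [Matrix.mul_nonsing_inv_cancel_left _ _ hu]) }
  exact ⟨Q, Q⁻¹, σ, Matrix.mul_nonsing_inv _ hu, Matrix.nonsing_inv_mul _ hu, fun g => rfl⟩

/-- A nonzero matrix scaled to be integral with nonzero reduction. -/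
theorem exists_scale {A : Matrix n n K} (hA : A ≠ 0) :
    ∃ (c : K) (Y : Matrix n n B), c ≠ 0 ∧ inclMat B Y = c • A ∧ redMat B Y ≠ 0 := by
  classical
  obtain ⟨i0, j0, h0⟩ : ∃ i j, A i j ≠ 0 := by
    by_contra h
    push Not at h
    exact hA (Matrix.ext h)
  obtain ⟨⟨i, j⟩, -, hm⟩ := Finset.exists_max_image Finset.univ
    (fun x : n × n => B.valuation (A x.1 x.2)) ⟨(i0, j0), Finset.mem_univ _⟩
  have hne : A i j ≠ 0 := fun h => by
    have := hm (i0, j0) (Finset.mem_univ _)
    rw [h, map_zero, le_zero_iff, map_eq_zero] at this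
    exact h0 this
  have hmem : ∀ a b, (A i j)⁻¹ * A a b ∈ B := fun a b => by
    rw [← B.valuation_le_one_iff, map_mul, map_inv₀,
      inv_mul_le_iff₀ (zero_lt_iff.2 ((map_ne_zero _).2 hne)), mul_one]
    exact hm (a, b) (Finset.mem_univ _)
  refine ⟨(A i j)⁻¹, Matrix.of fun a b => ⟨_, hmem a b⟩, inv_ne_zero hne, ?_, fun h => ?_⟩
  · ext a b; rfl
  · have h1 := congrFun (congrFun h i) j
    have h2 : (⟨(A i j)⁻¹ * A i j, hmem i j⟩ : B) = 1 := Subtype.ext (inv_mul_cancel₀ hne)
    have h3 : IsLocalRing.residue B ⟨(A i j)⁻¹ * A i j, hmem i j⟩ = 0 := h1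
    rw [h2, map_one] at h3
    exact one_ne_zero h3

/-- An idempotent reducing to the identity is the identity. -/
theorem eq_one_of_red_eq_one {E : Matrix n n B} (hE : IsIdempotentElem E) (h : redMat B E = 1) :
    E = 1 := by
  have hu : IsUnit E.det := by
    refine (IsLocalRing.residue_ne_zero_iff_isUnit _).1 ?_
    rw [RingHom.map_det]
    show (redMat B E).det ≠ 0
    rw [h, Matrix.det_one]
    exact one_ne_zero
  calc E = E⁻¹ * (E * E) := by rw [Matrix.nonsing_inv_mul_cancel_left _ _ hu]
    _ = 1 := by rw [hE.eq, Matrix.nonsing_inv_mul _ hu]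

/-- The kernel of the reduction of an integral representation has only elements of `p`-power
order. -/
theorem eq_one_of_prime_pow {p q : ℕ} (hp : (p : IsLocalRing.ResidueField B) = 0) (hq : q.Prime)
    (hpp : p.Prime) (hqp : q ≠ p) (A : Matrix n n B) (hA : A ^ q = 1) (h : redMat B A = 1) :
    A = 1 := by
  have hunit : IsUnit (∑ i ∈ Finset.range q, A ^ i) := by
    rw [Matrix.isUnit_iff_isUnit_det]
    refine (IsLocalRing.residue_ne_zero_iff_isUnit _).1 ?_
    rw [RingHom.map_det]
    show (redMat B (∑ i ∈ Finset.range q, A ^ i)).det ≠ 0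
    rw [map_sum]
    simp only [map_pow, h, one_pow, Finset.sum_const, Finset.card_range]
    rw [← Nat.cast_smul_eq_nsmul (IsLocalRing.ResidueField B), Matrix.det_smul, Matrix.det_one,
      mul_one]
    refine pow_ne_zero _ fun h0 => ?_
    obtain ⟨a, b, hab⟩ := ((Nat.coprime_primes hq hpp).2 hqp).isCoprime
    have := congrArg (Int.cast : ℤ → IsLocalRing.ResidueField B) hab
    push_cast at this
    rw [h0, hp, mul_zero, mul_zero, add_zero] at this
    exact zero_ne_one this
  have h0 : (A - 1) * ∑ i ∈ Finset.range q, A ^ i = 0 := by rw [mul_geom_sum, hA, sub_self]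
  exact sub_eq_zero.1 (hunit.mul_left_eq_zero.1 h0)

end CfsgLib.SmallDegreeP
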