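import Mathlib

/-!
# Spectral projections of an element of order `p`

Projections to the eigenspaces of an element of order dividing `p` in a matrix representation, and
the group of exponents of its conjugation.
-/

set_option autoImplicit false
set_option linter.style.haveILetI false

namespace CfsgLib.SmallDegreeP

open scoped BigOperators

variable {p : ℕ} [Fact p.Prime] {G : Type*} [Group G]

/-- Powers with exponents modulo `p`. -/
def upow (u : G) (i : ZMod p) : G := u ^ i.val

theorem upow_zero (u : G) : upow u (0 : ZMod p) = 1 := by simp [upow]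

theorem upow_one (u : G) : upow u (1 : ZMod p) = u := by
  haveI : Fact (1 < p) := ⟨(Fact.out : p.Prime).one_lt⟩
  simp [upow, ZMod.val_one]

theorem upow_natCast (u : G) (hup : u ^ p = 1) (i : ℕ) : upow u (i : ZMod p) = u ^ i := by
  rw [upow, ZMod.val_natCast]
  exact (pow_eq_pow_mod i hup).symm

theorem upow_add (u : G) (hup : u ^ p = 1) (i j : ZMod p) :
    upow u (i + j) = upow u i * upow u j := by
  rw [upow, upow, upow, ← pow_add, ZMod.val_add, ← pow_eq_pow_mod _ hup]

theorem upow_mul (u : G) (hup : u ^ p = 1) (a i : ZMod p) :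
    upow u (a * i) = upow u a ^ i.val := by
  rw [upow, upow, ← pow_mul, ZMod.val_mul, ← pow_eq_pow_mod _ hup]

theorem upow_pow_p (u : G) (hup : u ^ p = 1) (a : ZMod p) : upow u a ^ p = 1 := by
  rw [upow, ← pow_mul, mul_comm, pow_mul, hup, one_pow]

variable {n : Type*} [Fintype n] [DecidableEq n]

/-- The projection to the eigenspace with the eigenvalue of index `l`. -/
noncomputable def proj (ρ : G →* Matrix n n ℂ) (u : G) (l : ZMod p) : Matrix n n ℂ :=
  (p : ℂ)⁻¹ • ∑ i : ZMod p, (ZMod.stdAddChar (-(i * l)) : ℂ) • ρ (upow u i)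

variable (ρ : G →* Matrix n n ℂ) (u : G)

theorem rho_mul_proj (hup : u ^ p = 1) (j l : ZMod p) :
    ρ (upow u j) * proj ρ u l = (ZMod.stdAddChar (j * l) : ℂ) • proj ρ u l := by
  rw [proj, mul_smul_comm, smul_comm (ZMod.stdAddChar (j * l) : ℂ)]
  congr 1
  rw [Finset.mul_sum, Finset.smul_sum]
  refine Fintype.sum_equiv (Equiv.addLeft j) (fun i : ZMod p =>
    ρ (upow u j) * ((ZMod.stdAddChar (-(i * l)) : ℂ) • ρ (upow u i)))
    (fun i : ZMod p => (ZMod.stdAddChar (j * l) : ℂ) •
      ((ZMod.stdAddChar (-(i * l)) : ℂ) • ρ (upow u i))) fun i => ?_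
  rw [mul_smul_comm, ← map_mul, ← upow_add u hup, smul_smul, ← AddChar.map_add_eq_mul,
    Equiv.coe_addLeft]
  congr 2
  ring

theorem proj_mul (hup : u ^ p = 1) (l m : ZMod p) :
    proj ρ u l * proj ρ u m = if l = m then proj ρ u l else 0 := by
  conv_lhs => rw [proj, smul_mul_assoc, Finset.sum_mul]
  rw [Finset.sum_congr rfl fun i _ => by
    rw [smul_mul_assoc, rho_mul_proj ρ u hup, smul_smul, ← AddChar.map_add_eq_mul,
      show -(i * l) + i * m = i * (m - l) by ring], ← Finset.sum_smul,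
    AddChar.sum_mulShift (R := ZMod p) (R' := ℂ) (m - l) (ZMod.isPrimitive_stdAddChar p)]
  by_cases h : l = m
  · subst h
    rw [if_pos (sub_self l), if_pos rfl, ZMod.card, smul_smul,
      inv_mul_cancel₀ (Nat.cast_ne_zero.2 (Fact.out : p.Prime).ne_zero), one_smul]
  · rw [if_neg (sub_ne_zero.2 (Ne.symm h)), if_neg h, Nat.cast_zero, zero_smul, smul_zero]

theorem sum_proj : ∑ l : ZMod p, proj ρ u l = 1 := by
  simp only [proj, ← Finset.smul_sum]
  rw [Finset.sum_comm]
  simp only [← Finset.sum_smul]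
  have h : ∀ i : ZMod p, ∑ l : ZMod p, (ZMod.stdAddChar (-(i * l)) : ℂ) =
      if i = 0 then (p : ℂ) else 0 := by
    intro i
    have := AddChar.sum_mulShift (R := ZMod p) (R' := ℂ) (-i) (ZMod.isPrimitive_stdAddChar p)
    simp only [neg_eq_zero, ZMod.card, Nat.cast_ite, Nat.cast_zero] at this
    rw [← this]
    exact Finset.sum_congr rfl fun l _ => by congr 1; ring
  simp only [h, ite_smul, zero_smul, Finset.sum_ite_eq', Finset.mem_univ, if_true]
  rw [upow_zero, map_one, smul_smul,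
    inv_mul_cancel₀ (Nat.cast_ne_zero.2 (Fact.out : p.Prime).ne_zero), one_smul]

theorem commute_proj {g : G} (hg : Commute g u) (l : ZMod p) :
    Commute (ρ g) (proj ρ u l) := by
  refine Commute.smul_right (Commute.sum_right _ _ _ fun i _ => Commute.smul_right ?_ _) _
  exact (hg.pow_right _).map ρ

theorem conj_proj (hup : u ^ p = 1) {g : G} {a : (ZMod p)ˣ} (hg : g * u * g⁻¹ = upow u (a : ZMod p))
    (l : ZMod p) : ρ g * proj ρ u l * ρ g⁻¹ = proj ρ u (((a⁻¹ : (ZMod p)ˣ) : ZMod p) * l) := by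
  simp only [proj, mul_smul_comm, smul_mul_assoc, Finset.mul_sum, Finset.sum_mul]
  congr 1
  refine Fintype.sum_equiv (Units.mulLeft a) _ _ fun i => ?_
  rw [← map_mul, ← map_mul, Units.mulLeft_apply]
  congr 2
  · rw [mul_mul_mul_comm, Units.mul_inv, one_mul]
  · rw [upow_mul u hup, ← hg, conj_pow]
    rfl

theorem isIdempotentElem_proj (hup : u ^ p = 1) (l : ZMod p) : IsIdempotentElem (proj ρ u l) := by
  rw [IsIdempotentElem, proj_mul ρ u hup, if_pos rfl]

/-- Nonzero projections are independent. -/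
theorem card_le (hup : u ^ p = 1) (s : Finset (ZMod p)) (hs : ∀ l ∈ s, proj ρ u l ≠ 0) :
    s.card ≤ Fintype.card n := by
  classical
  have hv : ∀ l : s, ∃ v : n → ℂ, Matrix.mulVec (proj ρ u (l : ZMod p)) v ≠ 0 := by
    intro l
    by_contra h
    push Not at h
    exact hs l l.2 (Matrix.ext_of_mulVec_single fun i => by rw [h, Matrix.zero_mulVec])
  choose v hv using hv
  have hli : LinearIndependent ℂ (fun l : s => Matrix.mulVec (proj ρ u (l : ZMod p)) (v l)) := by
    rw [Fintype.linearIndependent_iff]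
    intro c hc l
    have h1 := congrArg (Matrix.mulVec (proj ρ u (l : ZMod p))) hc
    rw [Matrix.mulVec_sum, Matrix.mulVec_zero, Finset.sum_eq_single l] at h1
    · rw [Matrix.mulVec_smul, Matrix.mulVec_mulVec, proj_mul ρ u hup, if_pos rfl] at h1
      exact (smul_eq_zero.1 h1).resolve_right (hv l)
    · intro m _ hm
      rw [Matrix.mulVec_smul, Matrix.mulVec_mulVec, proj_mul ρ u hup,
        if_neg (fun e => hm (Subtype.ext e.symm)), Matrix.zero_mulVec, smul_zero]
    · simp
  have := hli.fintype_card_le_finrank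
  rwa [Fintype.card_coe, Module.finrank_fintype_fun_eq_card] at this

/-- The exponents of conjugation of `u`. -/
def auts (hup : u ^ p = 1) : Subgroup (ZMod p)ˣ where
  carrier := {a | ∃ g : G, g * u * g⁻¹ = upow u (a : ZMod p)}
  one_mem' := ⟨1, by simp [upow_one]⟩
  mul_mem' := by
    rintro a b ⟨g, hg⟩ ⟨h, hh⟩
    refine ⟨g * h, ?_⟩
    rw [Units.val_mul, upow_mul u hup, ← hg, conj_pow]
    rw [show u ^ (b : ZMod p).val = upow u (b : ZMod p) from rfl, ← hh]
    group
  inv_mem' := by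
    rintro a ⟨g, hg⟩
    refine ⟨g⁻¹, ?_⟩
    have h1 : (g * u * g⁻¹) ^ ((a⁻¹ : (ZMod p)ˣ) : ZMod p).val = u := by
      rw [hg, ← upow_mul u hup, Units.mul_inv, upow_one]
    rw [conj_pow, ← show upow u ((a⁻¹ : (ZMod p)ˣ) : ZMod p) = u ^ _ from rfl] at h1
    calc g⁻¹ * u * g⁻¹⁻¹ = g⁻¹ * (g * upow u ((a⁻¹ : (ZMod p)ˣ) : ZMod p) * g⁻¹) * g⁻¹⁻¹ := by rw [h1]
      _ = _ := by group

theorem mem_auts {hup : u ^ p = 1} {a : (ZMod p)ˣ} :
    a ∈ auts u hup ↔ ∃ g : G, g * u * g⁻¹ = upow u (a : ZMod p) := Iff.rfl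

theorem card_auts_dvd (hup : u ^ p = 1) : Nat.card (auts (p := p) u hup) ∣ p - 1 := by
  have := Subgroup.card_subgroup_dvd_card (auts (p := p) u hup)
  rwa [Nat.card_eq_fintype_card (α := (ZMod p)ˣ), ZMod.card_units] at this

end CfsgLib.SmallDegreeP
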