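import Cfsg.Agent.SmallDegreeP.Modular
import Cfsg.Agent.DefectOne.Canonical

/-!
# No irreducible representation of degree less than `(p - 1) / 2`

The eigenvalues form one orbit, each occurs once, and the constituents of `χ χ̄` then have too large
degrees.
-/

set_option autoImplicit false
set_option linter.style.haveILetI false
set_option linter.unusedSectionVars false

namespace CfsgLib.SmallDegreeP

open Cfsg CfsgLib.Characters
open scoped ComplexConjugate

universe u

variable {p : ℕ} [Fact p.Prime] {G : Type u} [Group G] [Fintype G] {n : ℕ} (S : Setting p G n)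

namespace Setting

variable {l0 : ZMod p}

theorem trace_proj_conj {a : (ZMod p)ˣ} (ha : a ∈ S.auts) (l : ZMod p) :
    Matrix.trace (proj S.rep S.u ((a : ZMod p) * l)) = Matrix.trace (proj S.rep S.u l) := by
  obtain ⟨g, hg⟩ := ha
  have h := congrArg Matrix.trace (conj_proj S.rep S.u S.pow_u hg ((a : ZMod p) * l))
  rw [← mul_assoc (((a⁻¹ : (ZMod p)ˣ) : ZMod p)), Units.inv_mul, one_mul, Matrix.trace_mul_comm,
    ← mul_assoc, ← map_mul, inv_mul_cancel, map_one, one_mul] at h
  exact h

/-- Each eigenvalue occurs once. -/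
theorem trace_proj_eq_one (hn : 2 * n + 1 < p) (hl0 : l0 ≠ 0) (hp0 : proj S.rep S.u l0 ≠ 0)
    (hO : S.orbSum 1 l0 = 1) :
    Matrix.trace (proj S.rep S.u l0) = 1 ∧ Nat.card S.auts = n := by
  classical
  letI := Fintype.ofFinite S.auts
  set E := proj S.rep S.u l0
  have hid : E * E = E := isIdempotentElem_proj S.rep S.u S.pow_u l0
  have hlin : IsIdempotentElem (Matrix.toLin' E) := by
    show _ ∘ₗ _ = _
    rw [← Matrix.toLin'_mul, hid]
  have htr : Matrix.trace E = (Module.finrank ℂ (LinearMap.range (Matrix.toLin' E)) : ℂ) := by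
    rw [← Matrix.trace_toLin'_eq, (LinearMap.IsIdempotentElem.isProj_range _ hlin).trace]
  set r := Module.finrank ℂ (LinearMap.range (Matrix.toLin' E))
  have hr : 0 < r := by
    refine Nat.pos_of_ne_zero fun h => hp0 ?_
    have h1 : LinearMap.range (Matrix.toLin' E) = ⊥ := Submodule.finrank_eq_zero.1 h
    exact (Matrix.toLin' (R := ℂ)).injective (by rw [LinearMap.range_eq_bot.1 h1, map_zero])
  have hsum : (n : ℂ) = (Nat.card S.auts * r : ℕ) := by
    have h := congrArg Matrix.trace hO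
    rw [Matrix.trace_one, Fintype.card_fin, orbSum_eq, Matrix.trace_sum] at h
    rw [← h]
    simp only [MonoidHom.one_apply, Units.val_one, one_smul]
    rw [Finset.sum_congr rfl (fun (a : S.auts) _ => (S.trace_proj_conj a.2 l0).trans htr),
      Finset.sum_const, Finset.card_univ, ← Nat.card_eq_fintype_card, nsmul_eq_mul, Nat.cast_mul]
  have hsum' : n = Nat.card S.auts * r := Nat.cast_injective hsum
  have hlt := S.lt_four_mul_card hl0 hp0 hO
  have hr1 : r = 1 := by
    by_contra hne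
    have : 2 ≤ r := by omega
    have := Nat.mul_le_mul_left (Nat.card S.auts) this
    omega
  rw [hr1, mul_one] at hsum'
  exact ⟨by rw [htr, hr1, Nat.cast_one], hsum'.symm⟩

/-- The value at an element centralizing `u` on an eigenline. -/
theorem norm_trace_mul_proj {E : Matrix (Fin n) (Fin n) ℂ} (hE : E * E = E)
    (hr : Matrix.trace E = 1) {k : G} (hk : Commute (S.rep k) E) :
    ‖Matrix.trace (S.rep k * E)‖ = 1 := by
  have hlin : IsIdempotentElem (Matrix.toLin' E) := by
    show _ ∘ₗ _ = _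
    rw [← Matrix.toLin'_mul, hE]
  have hrk : Module.finrank ℂ (LinearMap.range (Matrix.toLin' E)) = 1 := by
    have h := (LinearMap.IsIdempotentElem.isProj_range _ hlin).trace
    rw [Matrix.trace_toLin'_eq, hr] at h
    exact_mod_cast h.symm
  obtain ⟨⟨x0, hx0⟩, hne, hspan⟩ := finrank_eq_one_iff'.1 hrk
  obtain ⟨y, hy⟩ := hx0
  have hEx : Matrix.mulVec E x0 = x0 := by
    rw [← hy, Matrix.toLin'_apply, Matrix.mulVec_mulVec, hE]
  obtain ⟨d, hd⟩ := hspan ⟨Matrix.mulVec (S.rep k) x0, ⟨Matrix.mulVec (S.rep k) x0, by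
    rw [Matrix.toLin'_apply, Matrix.mulVec_mulVec, ← hk.eq, ← Matrix.mulVec_mulVec, hEx]⟩⟩
  have hd' : Matrix.mulVec (S.rep k) x0 = d • x0 := (congrArg Subtype.val hd).symm
  have hkE : S.rep k * E = d • E := by
    refine Matrix.ext_of_mulVec_single fun i => ?_
    obtain ⟨c, hc⟩ := hspan ⟨Matrix.mulVec E (Pi.single i 1), ⟨_, Matrix.toLin'_apply _ _⟩⟩
    have hc' : Matrix.mulVec E (Pi.single i 1) = c • x0 := (congrArg Subtype.val hc).symm
    rw [← Matrix.mulVec_mulVec, hc', Matrix.mulVec_smul, hd', Matrix.smul_mulVec, hc', smul_comm]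
  rw [hkE, Matrix.trace_smul, hr, smul_eq_mul, mul_one]
  have hx0' : x0 ≠ 0 := fun h => hne (Subtype.ext h)
  have hpow : ∀ j : ℕ, Matrix.mulVec (S.rep (k ^ j)) x0 = d ^ j • x0 := by
    intro j
    induction j with
    | zero => rw [pow_zero, map_one, Matrix.one_mulVec, pow_zero, one_smul]
    | succ j ih => rw [pow_succ, map_mul, ← Matrix.mulVec_mulVec, hd', Matrix.mulVec_smul, ih,
        smul_smul, ← pow_succ']
  have h1 := hpow (orderOf k)
  rw [pow_orderOf_eq_one, map_one, Matrix.one_mulVec] at h1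
  have h2 : d ^ orderOf k = 1 := smul_left_injective ℂ hx0' (show _ • x0 = _ • x0 by rw [← h1, one_smul])
  exact Complex.norm_eq_one_of_pow_eq_one h2 (orderOf_pos k).ne'

/-- The mean of `|χ|²` over the cosets of `u`. -/
theorem sum_absSq (hn : 2 * n + 1 < p) (hl0 : l0 ≠ 0) (hp0 : proj S.rep S.u l0 ≠ 0)
    (hO : S.orbSum 1 l0 = 1) {k : G} (hk : Commute k S.u) :
    ∑ i : ZMod p, Matrix.trace (S.rep (upow S.u i * k)) * conj (Matrix.trace (S.rep (upow S.u i * k))) =
      (p : ℂ) * n := by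
  classical
  letI := Fintype.ofFinite S.auts
  obtain ⟨htr, hcard⟩ := S.trace_proj_eq_one hn hl0 hp0 hO
  set d : ZMod p → ℂ := fun m => Matrix.trace (S.rep k * proj S.rep S.u m)
  have hval : ∀ i, Matrix.trace (S.rep (upow S.u i * k)) =
      ∑ m, (ZMod.stdAddChar (i * m) : ℂ) * d m := by
    intro i
    conv_lhs => rw [← mul_one (S.rep (upow S.u i * k)), ← sum_proj (p := p) S.rep S.u, Finset.mul_sum,
      Matrix.trace_sum]
    refine Finset.sum_congr rfl fun m _ => ?_
    rw [map_mul, mul_assoc, (commute_proj S.rep S.u hk m).eq, ← mul_assoc,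
      rho_mul_proj S.rep S.u S.pow_u, smul_mul_assoc, Matrix.trace_smul, smul_eq_mul,
      ← (commute_proj S.rep S.u hk m).eq]
  have hd : ∀ m, d m * conj (d m) = if proj S.rep S.u m = 0 then 0 else 1 := by
    intro m
    split_ifs with h
    · simp [d, h]
    · obtain ⟨a, ha, rfl⟩ := S.eq_mul_of_proj_ne_zero hO h
      rw [Complex.mul_conj, Complex.normSq_eq_norm_sq, S.norm_trace_mul_proj
        (isIdempotentElem_proj S.rep S.u S.pow_u _) (by rw [S.trace_proj_conj ha, htr])
        (commute_proj S.rep S.u hk _), one_pow, Complex.ofReal_one]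
  rw [Finset.sum_congr rfl fun i _ => by rw [hval i]]
  simp only [map_sum, map_mul, Finset.sum_mul, Finset.mul_sum]
  rw [Finset.sum_comm]
  rw [Finset.sum_congr rfl (g := fun m => (p : ℂ) * (if proj S.rep S.u m = 0 then 0 else 1))
    fun m _ => ?_]
  · rw [← Finset.mul_sum]
    congr 1
    rw [Finset.sum_ite, Finset.sum_const_zero, zero_add, Finset.sum_const, nsmul_eq_mul, mul_one,
      Nat.cast_inj]
    refine Eq.trans ?_ hcard
    rw [Nat.card_eq_fintype_card, ← Finset.card_univ,
      ← Finset.card_image_of_injective Finset.univ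
        (f := fun a : S.auts => ((a : (ZMod p)ˣ) : ZMod p) * l0)
        (fun a b e => Subtype.ext (Units.ext (mul_right_cancel₀ hl0 e)))]
    congr 1
    ext m
    simp only [Finset.mem_filter, Finset.mem_univ, true_and, Finset.mem_image]
    refine ⟨fun h => ?_, fun ⟨a, ha⟩ => ha ▸ S.proj_conj_ne_zero hp0 a.2⟩
    obtain ⟨a, ha, e⟩ := S.eq_mul_of_proj_ne_zero hO h
    exact ⟨⟨a, ha⟩, e.symm⟩
  · rw [Finset.sum_comm, ← hd m]
    rw [Finset.sum_eq_single m (fun m' _ hne => ?_) (by simp)]
    · rw [Finset.sum_congr rfl (g := fun _ : ZMod p => d m * conj (d m)) fun i _ => ?_,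
        Finset.sum_const, Finset.card_univ, ZMod.card, nsmul_eq_mul]
      rw [← AddChar.map_neg_eq_conj, show ∀ a b c e : ℂ, a * b * (c * e) = a * c * (b * e) from
        fun _ _ _ _ => by ring, ← AddChar.map_add_eq_mul]
      simp
    · rw [Finset.sum_congr rfl (g := fun i : ZMod p =>
          ZMod.stdAddChar (i * (m' - m)) * (d m' * conj (d m))) fun i _ => ?_,
        ← Finset.sum_mul, AddChar.sum_mulShift _ (ZMod.isPrimitive_stdAddChar p),
        if_neg (sub_ne_zero.2 hne), Nat.cast_zero, zero_mul]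
      rw [← AddChar.map_neg_eq_conj, show ∀ a b c e : ℂ, a * b * (c * e) = a * c * (b * e) from
        fun _ _ _ _ => by ring, ← AddChar.map_add_eq_mul]
      congr 2
      ring

open Classical in
/-- The contradiction. -/
theorem two_mul_add_one_ge (χ : IrrCharacter G)
    (hχ : ∀ g, (χ : G → ℂ) g = Matrix.trace (S.rep g))
    (L : DefectOne.Local p G) (hu : S.u ∈ (L.P : Subgroup G)) : p ≤ 2 * n + 1 := by
  by_contra hlt
  have hn : 2 * n + 1 < p := not_le.1 hlt
  obtain ⟨l0, hl0, hp0, hO⟩ := S.exists_orbit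
  have hf := S.one_lt_card_auts hO
  have hn2 : 2 ≤ n := by
    have := (S.trace_proj_eq_one hn hl0 hp0 hO).2
    omega
  haveI := L.finite_lam
  haveI := L.finite_col
  letI := Fintype.ofFinite L.Lam
  letI := Fintype.ofFinite L.PK
  haveI := Fintype.ofFinite L.K
  haveI := Fintype.ofFinite (L.P : Subgroup G)
  have hp : (p : ℂ) ≠ 0 := Nat.cast_ne_zero.2 (Fact.out : p.Prime).ne_zero
  -- sums over `P`
  have hou : orderOf S.u = p := orderOf_eq_prime S.pow_u S.ne_one
  let ι : ZMod p → (L.P : Subgroup G) := fun i => ⟨upow S.u i, pow_mem hu _⟩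
  have hι : Function.Bijective ι := by
    refine (Fintype.bijective_iff_injective_and_card ι).2 ⟨fun i j h => ?_, ?_⟩
    · have h' : S.u ^ i.val = S.u ^ j.val := congrArg Subtype.val h
      rw [pow_inj_mod, hou, Nat.mod_eq_of_lt (ZMod.val_lt i), Nat.mod_eq_of_lt (ZMod.val_lt j)] at h'
      exact ZMod.val_injective p h'
    · rw [ZMod.card, ← Nat.card_eq_fintype_card, L.card_P]
  have hmean : ∀ k : L.K, ∑ v : (L.P : Subgroup G),
      (χ : G → ℂ) ((v : G) * k) * conj ((χ : G → ℂ) ((v : G) * k)) = (p : ℂ) * n := by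
    intro k
    rw [← (Fintype.sum_equiv (Equiv.ofBijective ι hι) _ _ fun i => rfl :
      ∑ i : ZMod p, (χ : G → ℂ) ((ι i : G) * k) * conj ((χ : G → ℂ) ((ι i : G) * k)) = _)]
    simp only [hχ]
    exact S.sum_absSq hn hl0 hp0 hO (L.commute hu k.2).symm
  -- the product
  set θ : G → ℂ := fun g => (χ : G → ℂ) g * conj ((χ : G → ℂ) g) with hθ
  have hθc : Cfsg.IsCharacter G θ :=
    isCharacter_mul (isCharacter_of_isIrr χ.2) (isCharacter_conj (isCharacter_of_isIrr χ.2))
  obtain ⟨c, hc⟩ := exists_nat_coeff hθc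
  have hexp : ∀ g, θ g = ∑ ψ : IrrCharacter G, (c ψ : ℂ) * (ψ : G → ℂ) g := fun g => by
    rw [hc]; simp [Finset.sum_apply]
  -- the trivial character
  let one : IrrCharacter G := ⟨fun _ => 1, isIrr_one⟩
  have hc1 : c one = 1 := by
    have h1 : Cfsg.classInner θ (one : G → ℂ) = (c one : ℂ) := by
      rw [show θ = ∑ ψ : IrrCharacter G, (fun ψ => (c ψ : ℂ)) ψ • (ψ : G → ℂ) from hc]
      exact classInner_irr_coeff _ one
    have h2 : Cfsg.classInner θ (one : G → ℂ) = Cfsg.classInner (χ : G → ℂ) (χ : G → ℂ) := by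
      simp [Cfsg.classInner, hθ, one]
    rw [h2, classInner_isIrr_self χ.2] at h1
    exact_mod_cast h1.symm
  let oneK : IrrCharacter L.K := ⟨fun _ => 1, isIrr_one⟩
  -- multiplicities on `P × K`
  have hM : ∀ (ψ : IrrCharacter G) (φ : IrrCharacter L.K), ∃ M : ℕ,
      Cfsg.classInner (L.res (ψ : G → ℂ)) (fun x => (φ : L.K → ℂ) x.2) = M := by
    intro ψ φ
    obtain ⟨M, hM⟩ := classInner_character_irr (L.isCharacter_res ψ) (L.isIrr_tensor 1 φ)
    exact ⟨M, by simpa using hM⟩
  choose M hM using hM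
  have hA : ∀ (ψ : IrrCharacter G) (φ : IrrCharacter L.K) (l : L.Lam),
      ∃ A : ℕ, L.cvec ψ (l, φ) = (M ψ φ : ℂ) - A := by
    intro ψ φ l
    obtain ⟨A, hA⟩ := classInner_character_irr (L.isCharacter_res ψ) (L.isIrr_tensor l.1 φ)
    refine ⟨A, ?_⟩
    rw [L.cvec_eq, show L.psi (l, φ) = (fun x => (φ : L.K → ℂ) x.2) -
      (fun x => (l.1 x.1 : ℂ) * (φ : L.K → ℂ) x.2) from funext fun x => by
        simp [DefectOne.Local.psi, sub_mul], classInner_sub_right, hM, hA]
  choose A hA using hA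
  have hMsum : ∀ φ : IrrCharacter L.K, ∑ ψ : IrrCharacter G, (c ψ : ℂ) * M ψ φ =
      if φ = oneK then (n : ℂ) else 0 := by
    intro φ
    have h1 : ∑ ψ : IrrCharacter G, (c ψ : ℂ) * M ψ φ =
        Cfsg.classInner (L.res θ) (fun x => (φ : L.K → ℂ) x.2) := by
      rw [show L.res θ = ∑ ψ : IrrCharacter G, (c ψ : ℂ) • L.res (ψ : G → ℂ) from
        funext fun x => by simp [DefectOne.Local.res, hexp, Finset.sum_apply],
        classInner_sum_left]
      exact Finset.sum_congr rfl fun ψ _ => by rw [classInner_smul_left, hM]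
    rw [h1, Cfsg.classInner, L.sum_PK, Finset.sum_comm]
    simp only [DefectOne.Local.res, hθ, DefectOne.Local.emb_apply, ← Finset.sum_mul, hmean]
    rw [L.card_PK, Nat.cast_mul, ← Finset.mul_sum, mul_inv]
    have h2 : ((Nat.card L.K : ℂ))⁻¹ * ∑ k : L.K, conj ((φ : L.K → ℂ) k) =
        if φ = oneK then 1 else 0 := by
      have h3 := classInner_irr oneK φ
      simp only [Cfsg.classInner, oneK, one_mul] at h3
      rw [h3]
      exact if_congr eq_comm rfl rfl
    calc (p : ℂ)⁻¹ * (Nat.card L.K : ℂ)⁻¹ * ((p : ℂ) * n * ∑ k : L.K, conj ((φ : L.K → ℂ) k))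
        = n * ((Nat.card L.K : ℂ)⁻¹ * ∑ k : L.K, conj ((φ : L.K → ℂ) k)) := by field_simp
      _ = _ := by rw [h2, mul_ite, mul_one, mul_zero]
  have hMzero : ∀ ψ : IrrCharacter G, c ψ ≠ 0 → ∀ φ, φ ≠ oneK → M ψ φ = 0 := by
    intro ψ hψ φ hφ
    have h := hMsum φ
    rw [if_neg hφ] at h
    have h' : ∑ ψ : IrrCharacter G, c ψ * M ψ φ = 0 := by exact_mod_cast h
    exact (mul_eq_zero.1 (Finset.sum_eq_zero_iff.1 h' ψ (Finset.mem_univ _))).resolve_left hψ
  -- the degree of a constituent
  have hdeg : ∀ ψ : IrrCharacter G, (ψ : G → ℂ) 1 +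
      ∑ φ : IrrCharacter L.K, (φ : L.K → ℂ) 1 * ∑ l : L.Lam, L.cvec ψ (l, φ) =
      ∑ v : (L.P : Subgroup G), (ψ : G → ℂ) v := fun ψ => L.degree_sum ψ
  have hMP : ∀ ψ : IrrCharacter G, c ψ ≠ 0 →
      ∑ v : (L.P : Subgroup G), (ψ : G → ℂ) v = (p : ℂ) * M ψ oneK := by
    intro ψ hψ
    -- expand at the trivial element of `K`
    have h1 : ∑ φ : IrrCharacter L.K, (φ : L.K → ℂ) 1 * (M ψ φ : ℂ) =
        (p : ℂ)⁻¹ * ∑ v : (L.P : Subgroup G), (ψ : G → ℂ) v := by
      have h2 : ∀ φ : IrrCharacter L.K, (φ : L.K → ℂ) 1 * (M ψ φ : ℂ) =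
          ((Nat.card L.PK : ℂ))⁻¹ * ∑ k : L.K, (∑ v : (L.P : Subgroup G), (ψ : G → ℂ) ((v : G) * k)) *
            ((φ : L.K → ℂ) 1 * conj ((φ : L.K → ℂ) k)) := by
        intro φ
        rw [← hM, Cfsg.classInner, L.sum_PK, Finset.sum_comm, Finset.mul_sum, Finset.mul_sum,
          Finset.mul_sum]
        refine Finset.sum_congr rfl fun k _ => ?_
        simp only [DefectOne.Local.res, DefectOne.Local.emb_apply, ← Finset.sum_mul]
        ring
      simp only [h2]
      rw [← Finset.mul_sum, Finset.sum_comm]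
      simp only [← Finset.mul_sum]
      rw [Finset.sum_eq_single 1]
      · have h3 : ∑ φ : IrrCharacter L.K, (φ : L.K → ℂ) 1 * conj ((φ : L.K → ℂ) 1) =
            (Nat.card L.K : ℂ) := by
          rw [sum_irr_mul_conj]
          norm_cast
          exact Nat.card_congr (Equiv.subtypeUnivEquiv fun g => by simp)
        rw [h3, L.card_PK, Nat.cast_mul]
        simp only [OneMemClass.coe_one, mul_one]
        have : (Nat.card L.K : ℂ) ≠ 0 := Nat.cast_ne_zero.2 Nat.card_pos.ne'
        field_simp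
      · intro k _ hk
        rw [sum_irr_mul_conj_of_not_isConj, mul_zero]
        intro hcj
        obtain ⟨d, hd⟩ := isConj_iff.1 hcj
        exact hk (by rw [← hd]; simp)
      · simp
    rw [Finset.sum_eq_single oneK (fun φ _ hφ => by rw [hMzero ψ hψ φ hφ, Nat.cast_zero, mul_zero])
      (by simp)] at h1
    simp only [oneK, one_mul] at h1
    rw [h1, mul_inv_cancel_left₀ hp]
  -- the inequality
  have horb : ∀ φ : IrrCharacter L.K, L.orb φ = L.orb oneK → φ = oneK := by
    intro φ h
    obtain ⟨m, hm⟩ := L.orb_eq_iff.1 h.symm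
    rw [hm]
    exact Subtype.ext rfl
  have key : ∀ ψ : IrrCharacter G, c ψ ≠ 0 → ψ ≠ one →
      (p + 1 : ℤ) * M ψ oneK ≤ 2 * Cfsg.charDegree (ψ : G → ℂ) := by
    intro ψ hψ hne
    rcases Nat.eq_zero_or_pos (M ψ oneK) with h0 | hz
    · rw [h0, Nat.cast_zero, mul_zero]
      exact mul_nonneg zero_le_two (Int.natCast_nonneg _)
    have hd := hdeg ψ
    rw [hMP ψ hψ, ← Blocks.charDegree_cast] at hd
    -- the other characters of `K` have non-positive coefficients
    set z := M ψ oneK
    have hsplit : (Cfsg.charDegree (ψ : G → ℂ) : ℤ) + (∑ l : L.Lam, L.cint ψ (L.col (l, oneK))) =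
        (p : ℤ) * z + ∑ φ ∈ Finset.univ.erase oneK,
          (Cfsg.charDegree (φ : L.K → ℂ) : ℤ) * ∑ l : L.Lam, (A ψ φ l : ℤ) := by
      apply Int.cast_injective (α := ℂ)
      push_cast
      rw [← hd, ← Finset.add_sum_erase _ _ (Finset.mem_univ oneK)]
      rw [show ((oneK : IrrCharacter L.K) : L.K → ℂ) 1 = 1 from rfl, one_mul]
      simp only [L.cint_col]
      rw [Finset.sum_congr rfl (s₁ := Finset.univ.erase oneK) (g := fun φ =>
        -((Cfsg.charDegree (φ : L.K → ℂ) : ℂ) * ∑ l : L.Lam, (A ψ φ l : ℂ))) fun φ hφ => by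
          simp only [hA, hMzero ψ hψ φ (Finset.ne_of_mem_erase hφ), Nat.cast_zero, zero_sub,
            Finset.sum_neg_distrib, Blocks.charDegree_cast, mul_neg]]
      rw [Finset.sum_neg_distrib]
      ring
    have hrest : 0 ≤ ∑ φ ∈ Finset.univ.erase oneK,
        (Cfsg.charDegree (φ : L.K → ℂ) : ℤ) * ∑ l : L.Lam, (A ψ φ l : ℤ) :=
      Finset.sum_nonneg fun φ _ => mul_nonneg (Int.natCast_nonneg _)
        (Finset.sum_nonneg fun l _ => Int.natCast_nonneg _)
    have hlam : (Fintype.card L.Lam : ℤ) = (p : ℤ) - 1 := by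
      rw [← Nat.card_eq_fintype_card, L.card_lam, Nat.cast_sub (Fact.out : p.Prime).one_le,
        Nat.cast_one]
    set O := L.orb oneK with hO'
    letI := Fintype.ofFinite (L.ColOver O)
    by_cases hs : ∃ q : L.ColOver O, L.cint ψ q.1 ≠ 0
    swap
    · have hzero : ∑ l : L.Lam, L.cint ψ (L.col (l, oneK)) = 0 :=
        Finset.sum_eq_zero fun l _ => by_contra fun h => hs ⟨⟨L.col (l, oneK), rfl⟩, h⟩
      have hp2 : (2 : ℤ) ≤ p := by exact_mod_cast (Fact.out : p.Prime).two_le
      have hzz : (1 : ℤ) ≤ z := by exact_mod_cast hz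
      nlinarith
    have hout : Quotient.out O = oneK := horb _ (Quotient.out_eq O)
    have hcol : ∀ l : L.Lam, L.cint ψ (L.col (l, oneK)) = L.cint ψ (L.colLam O l).1 := by
      intro l
      show _ = L.cint ψ (L.col (l, Quotient.out O))
      rw [hout]
    simp only [hcol] at hsplit
    have hrows : (∃ a : ℤ, (a = 1 ∨ a = -1) ∧ ∀ q : L.ColOver O, L.cint ψ q.1 = a) ∨
        ∃ (q₀ : L.ColOver O) (a : ℤ), (a = 1 ∨ a = -1) ∧ (∃ q₁, q₁ ≠ q₀) ∧
          ∀ q : L.ColOver O, L.cint ψ q.1 = if q = q₀ then a else 0 := by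
      rcases L.rows O ψ hs with h | ⟨q₀, a, ha, hca⟩
      · exact Or.inl h
      · by_cases htwo : ∃ q₁ : L.ColOver O, q₁ ≠ q₀
        · exact Or.inr ⟨q₀, a, ha, htwo, hca⟩
        · push Not at htwo
          exact Or.inl ⟨a, ha, fun q => by rw [hca, if_pos (htwo q)]⟩
    rcases hrows with ⟨a, ha, hca⟩ | ⟨q₀, a, ha, ⟨q₁, hq₁⟩, hca⟩
    · simp only [hca, Finset.sum_const, Finset.card_univ, nsmul_eq_mul, hlam] at hsplit
      rcases ha with rfl | rfl
      · by_cases hz1 : z = 1
        · -- the character is linear and trivial on `P`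
          exfalso
          apply hne
          have hz0 : ∀ φ : IrrCharacter L.K, φ ≠ oneK → ∀ l : L.Lam, (A ψ φ l : ℤ) = 0 := by
            intro φ hφ l
            have h0 : L.cvec ψ (l, φ) = 0 := by
              rw [← L.cint_col]
              by_contra h
              obtain ⟨q, hq⟩ := hs
              have := (L.counting.2.2.2 ψ (L.col (l, φ)) q.1
                (fun e => h (by rw [e, Int.cast_zero])) hq).trans q.2
              exact hφ (horb φ this)
            have h1 := hA ψ φ l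
            rw [h0, hMzero ψ hψ φ hφ, Nat.cast_zero, zero_sub, zero_eq_neg] at h1
            exact_mod_cast h1
          rw [Finset.sum_eq_zero fun φ hφ => by
            rw [Finset.sum_eq_zero fun l _ => hz0 φ (Finset.ne_of_mem_erase hφ) l, mul_zero],
            hz1, Nat.cast_one] at hsplit
          have hd1 : Cfsg.charDegree (ψ : G → ℂ) = 1 := by
            have : (Cfsg.charDegree (ψ : G → ℂ) : ℤ) = 1 := by linarith
            exact_mod_cast this
          have hψ1 : (ψ : G → ℂ) 1 = 1 := by rw [← Blocks.charDegree_cast, hd1, Nat.cast_one]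
          obtain ⟨f, hf'⟩ := exists_hom_of_degree_one (isCharacter_of_isIrr ψ.2) hψ1
          have hMP' := hMP ψ hψ
          rw [show M ψ oneK = 1 from hz1, Nat.cast_one, mul_one] at hMP'
          have hfu : f S.u = 1 := by
            by_contra hfu
            have h0 : ∑ v : (L.P : Subgroup G), ((f.comp (L.P : Subgroup G).subtype v : ℂˣ) : ℂ) = 0 := by
              refine sum_hom_units_eq_zero ((Units.coeHom ℂ).comp (f.comp (L.P : Subgroup G).subtype)) ?_
              intro h
              have h' : ((f S.u : ℂˣ) : ℂ) = 1 := DFunLike.congr_fun h (⟨S.u, hu⟩ : (L.P : Subgroup G))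
              exact hfu (Units.ext h')
            refine hp (hMP'.symm.trans ?_)
            rw [← h0]
            exact Finset.sum_congr rfl fun v _ => (congrFun hf' (v : G))
          have hker : f.ker = ⊤ := by
            rw [eq_top_iff, ← S.gen]
            exact Subgroup.normalClosure_le_normal (Set.singleton_subset_iff.2 hfu)
          refine Subtype.ext (funext fun g => ?_)
          rw [congrFun hf' g, show f g = 1 from (hker ▸ Subgroup.mem_top g : g ∈ f.ker)]
          rfl
        · have hp2 : (2 : ℤ) ≤ p := by exact_mod_cast (Fact.out : p.Prime).two_le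
          have hzz : (2 : ℤ) ≤ z := by exact_mod_cast (show 2 ≤ z by omega)
          nlinarith
      · have hp2 : (2 : ℤ) ≤ p := by exact_mod_cast (Fact.out : p.Prime).two_le
        have hzz : (1 : ℤ) ≤ z := by exact_mod_cast hz
        nlinarith
    · have hone : L.cint ψ q₀.1 ≠ 0 := by
        rw [hca, if_pos rfl]
        rcases ha with h | h <;> rw [h] <;> norm_num
      rw [L.sum_unitRow O ψ q₀ ⟨hone, fun q hq => by rw [hca, if_neg hq]⟩, hca, if_pos rfl]
        at hsplit
      have ht : 1 < Nat.card (L.ColOver O) := by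
        rw [Nat.card_eq_fintype_card, Fintype.one_lt_card_iff]
        exact ⟨q₁, q₀, hq₁⟩
      have he := L.card_colOver_mul O
      have he2 : 2 * L.eO O ≤ p - 1 := by
        rw [← he]; exact Nat.mul_le_mul_right _ ht
      have he2' : 2 * (L.eO O : ℤ) ≤ (p : ℤ) - 1 := by
        rw [← Nat.cast_one, ← Nat.cast_sub (Fact.out : p.Prime).one_le]
        exact_mod_cast he2
      have hp2 : (2 : ℤ) ≤ p := by exact_mod_cast (Fact.out : p.Prime).two_le
      have hzz : (1 : ℤ) ≤ z := by exact_mod_cast hz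
      have he0 : (0 : ℤ) ≤ L.eO O := Int.natCast_nonneg _
      rcases ha with rfl | rfl <;> nlinarith
  -- count
  have hz_one : M one oneK = 1 := by
    have h := hMP one (by rw [hc1]; exact one_ne_zero)
    simp only [one, Finset.sum_const, Finset.card_univ, nsmul_eq_mul, mul_one] at h
    rw [← Nat.card_eq_fintype_card, L.card_P] at h
    have h' : p * 1 = p * M one oneK := by rw [mul_one]; exact_mod_cast h
    exact (Nat.eq_of_mul_eq_mul_left (Fact.out : p.Prime).pos h').symm
  have hone_deg : Cfsg.charDegree (one : G → ℂ) = 1 := by simp [Cfsg.charDegree, one]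
  have hzsum : ∑ ψ : IrrCharacter G, (c ψ : ℤ) * M ψ oneK = n := by
    have h := hMsum oneK
    rw [if_pos rfl] at h
    exact_mod_cast h
  have hdsum : ∑ ψ : IrrCharacter G, (c ψ : ℤ) * Cfsg.charDegree (ψ : G → ℂ) = (n : ℤ) * n := by
    have h := hexp 1
    rw [hθ] at h
    simp only [hχ, map_one, Matrix.trace_one, Fintype.card_fin, map_natCast] at h
    simp only [← Blocks.charDegree_cast] at h
    exact_mod_cast h.symm
  rw [← Finset.add_sum_erase _ _ (Finset.mem_univ one), hc1, hz_one, Nat.cast_one, one_mul] at hzsum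
  rw [← Finset.add_sum_erase _ _ (Finset.mem_univ one), hc1, hone_deg, Nat.cast_one, one_mul] at hdsum
  have hle : (p + 1 : ℤ) * ∑ ψ ∈ Finset.univ.erase one, (c ψ : ℤ) * M ψ oneK ≤
      2 * ∑ ψ ∈ Finset.univ.erase one, (c ψ : ℤ) * Cfsg.charDegree (ψ : G → ℂ) := by
    rw [Finset.mul_sum, Finset.mul_sum]
    refine Finset.sum_le_sum fun ψ hψ => ?_
    by_cases h0 : c ψ = 0
    · simp [h0]
    have := key ψ h0 (Finset.ne_of_mem_erase hψ)
    calc (p + 1 : ℤ) * ((c ψ : ℤ) * M ψ oneK) = (c ψ : ℤ) * ((p + 1 : ℤ) * M ψ oneK) := by ring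
      _ ≤ (c ψ : ℤ) * (2 * Cfsg.charDegree (ψ : G → ℂ)) :=
          mul_le_mul_of_nonneg_left this (Int.natCast_nonneg _)
      _ = _ := by ring
  have hn' : (2 : ℤ) * n + 2 ≤ p := by exact_mod_cast (show 2 * n + 2 ≤ p by omega)
  have hn2' : (2 : ℤ) ≤ n := by exact_mod_cast hn2
  nlinarith

end Setting

end CfsgLib.SmallDegreeP
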